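import Mathlib.RingTheory.PicardGroup
import Mathlib.RingTheory.Polynomial.Content
import Mathlib.RingTheory.Valuation.ValuationRing
import Mathlib.RingTheory.TensorProduct.Basic
import Mathlib.Algebra.MvPolynomial.Equiv
import Mathlib.Algebra.MvPolynomial.CommRing
import Mathlib.Algebra.MvPolynomial.NoZeroDivisors
import Mathlib.Data.Finsupp.Interval
import Mathlib.Algebra.Order.Sub.Defs

/-!
# Invertible modules over polynomial rings over products of valuation rings
-/

set_option autoImplicit false
set_option linter.style.haveILetI false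

universe u

namespace GrothLib.PicVal28

open MvPolynomial TensorProduct

theorem isGCDMonoid_congr {S T : Type*} [CommRing S] [CommRing T] [IsDomain S] [IsDomain T]
    (e : S ≃+* T) [h : IsGCDMonoid S] : IsGCDMonoid T := by
  refine (isGCDMonoid_iff_exists_gcd (α := T)).mpr ⟨inferInstance, fun a b => ?_⟩
  obtain ⟨-, H⟩ := (isGCDMonoid_iff_exists_gcd (α := S)).mp h
  obtain ⟨c, hc⟩ := H (e.symm a) (e.symm b)
  refine ⟨e c, fun d => ?_⟩
  have := hc (e.symm d)
  rw [map_dvd_iff, map_dvd_iff] at this
  rwa [← map_dvd_iff e.symm (b := e c), e.symm_apply_apply]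

theorem isGCDMonoid_mvPolynomial (R : Type u) [CommRing R] [IsDomain R] [IsGCDMonoid R] :
    ∀ n, IsGCDMonoid (MvPolynomial (Fin n) R)
  | 0 => isGCDMonoid_congr (MvPolynomial.isEmptyAlgEquiv R (Fin 0)).symm.toRingEquiv
  | n + 1 =>
    haveI := isGCDMonoid_mvPolynomial R n
    isGCDMonoid_congr (MvPolynomial.finSuccEquiv R n).symm.toRingEquiv

variable {ι : Type u} (R : ι → Type u) [∀ i, CommRing (R i)] [∀ i, IsDomain (R i)]
  [∀ i, ValuationRing (R i)] (n : ℕ)

theorem free_of_invertible (M : Type u) [AddCommGroup M]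
    [Module (MvPolynomial (Fin n) (∀ i, R i)) M]
    [Module.Invertible (MvPolynomial (Fin n) (∀ i, R i)) M] :
    Module.Free (MvPolynomial (Fin n) (∀ i, R i)) M := by
  classical
  set B := MvPolynomial (Fin n) (∀ i, R i)
  obtain ⟨N, p, s, -, -, hps⟩ := Module.Finite.exists_comp_eq_id_of_projective B M
  let E : Fin N → Fin N → B := fun j k => s (p (Pi.single k 1)) j
  have hps' : ∀ x, p (s x) = x := LinearMap.congr_fun hps
  have hexp : ∀ x, x = ∑ k, s x k • p (Pi.single k 1) := fun x => by
    conv_lhs => rw [← hps' x, ← (Pi.basisFun B (Fin N)).sum_repr (s x)]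
    simp [Pi.basisFun_apply]
  let d : ℕ := Finset.univ.sup fun jk : Fin N × Fin N => (E jk.1 jk.2).totalDegree
  -- rank one factorisation over each factor
  have local' : ∀ i, ∃ v w : Fin N → MvPolynomial (Fin n) (R i),
      (∀ j k, MvPolynomial.map (Pi.evalRingHom R i) (E j k) = v j * w k) ∧
        ∑ k, v k * w k = 1 := by
    intro i
    haveI := isGCDMonoid_mvPolynomial (R i) n
    let φ : B →+* MvPolynomial (Fin n) (R i) := MvPolynomial.map (Pi.evalRingHom R i)
    letI : Algebra B (MvPolynomial (Fin n) (R i)) := φ.toAlgebra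
    let D := MvPolynomial (Fin n) (R i)
    haveI : Module.Free D (D ⊗[B] M) := inferInstance
    obtain ⟨e⟩ := (Module.Invertible.free_iff_linearEquiv (R := D) (M := D ⊗[B] M)).mp inferInstance
    let F : Fin N → (D ⊗[B] M →ₗ[D] D) := fun j =>
      ((Algebra.linearMap B D).comp ((LinearMap.proj j).comp s)).liftBaseChange D
    have hF : ∀ j x, F j (1 ⊗ₜ x) = φ (s x j) := fun j x => by
      rw [LinearMap.liftBaseChange_tmul, one_smul]
      rfl
    refine ⟨fun j => F j (e.symm 1), fun k => e (1 ⊗ₜ p (Pi.single k 1)), fun j k => ?_, ?_⟩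
    · rw [show MvPolynomial.map (Pi.evalRingHom R i) (E j k) = F j (1 ⊗ₜ p (Pi.single k 1)) from (hF j _).symm]
      conv_lhs => rw [← e.symm_apply_apply (1 ⊗ₜ p (Pi.single k 1)),
        ← mul_one (e (1 ⊗ₜ p (Pi.single k 1))), ← smul_eq_mul, map_smul, map_smul, smul_eq_mul, mul_comm]
    · have key : e.toLinearMap = ∑ k, (F k).smulRight (e (1 ⊗ₜ p (Pi.single k 1))) := by
        refine TensorProduct.AlgebraTensorModule.ext fun c x => ?_
        rw [show c ⊗ₜ[B] x = c • ((1 : D) ⊗ₜ[B] x) by rw [TensorProduct.smul_tmul', smul_eq_mul, mul_one],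
          map_smul, map_smul]
        congr 1
        conv_lhs => rw [LinearEquiv.coe_coe, hexp x, TensorProduct.tmul_sum, map_sum]
        rw [LinearMap.sum_apply]
        refine Finset.sum_congr rfl fun k _ => ?_
        rw [LinearMap.smulRight_apply, hF, TensorProduct.tmul_smul, algebra_compatible_smul D, map_smul]
        rfl
      have := LinearMap.congr_fun key (e.symm 1)
      simpa [LinearMap.sum_apply] using this.symm
  choose v w hvw hsum using local'
  -- the degrees are bounded
  have hdeg : ∀ i j, (v i j).totalDegree ≤ d ∧ (w i j).totalDegree ≤ d := by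
    intro i j
    have hnz : ∃ k, v i k ≠ 0 ∧ w i k ≠ 0 := by
      by_contra h
      push Not at h
      refine one_ne_zero ((hsum i).symm.trans (Finset.sum_eq_zero fun k _ => ?_))
      by_cases hk : v i k = 0
      · rw [hk, zero_mul]
      · rw [h k hk, mul_zero]
    obtain ⟨k, hv, hw⟩ := hnz
    have hle : ∀ a b, (v i a * w i b).totalDegree ≤ d := fun a b => by
      rw [← hvw]
      exact le_trans (Finset.sup_mono (MvPolynomial.support_map_subset _ _))
        (Finset.le_sup (f := fun jk : Fin N × Fin N => (E jk.1 jk.2).totalDegree) (Finset.mem_univ (a, b)))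
    constructor
    · by_cases h0 : v i j = 0
      · simp [h0]
      have := hle j k
      rw [MvPolynomial.totalDegree_mul_of_isDomain h0 hw] at this
      omega
    · by_cases h0 : w i j = 0
      · simp [h0]
      have := hle k j
      rw [MvPolynomial.totalDegree_mul_of_isDomain hv h0] at this
      omega
  let T : Finset (Fin n →₀ ℕ) := Finset.Iic (Finsupp.equivFunOnFinite.symm fun _ => d)
  let col : ((i : ι) → MvPolynomial (Fin n) (R i)) → B := fun q =>
    ∑ t ∈ T, MvPolynomial.monomial t fun i => (q i).coeff t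
  have hcol : ∀ q : (i : ι) → MvPolynomial (Fin n) (R i), (∀ i, (q i).totalDegree ≤ d) →
      ∀ i, MvPolynomial.map (Pi.evalRingHom R i) (col q) = q i := by
    intro q hq i
    ext t
    simp only [col, map_sum, MvPolynomial.map_monomial, MvPolynomial.coeff_sum, MvPolynomial.coeff_monomial,
      Finset.sum_ite_eq', Pi.evalRingHom_apply]
    split_ifs with ht
    · rfl
    · by_contra h
      refine ht (Finset.mem_Iic.mpr fun a => ?_)
      have h1 := MvPolynomial.le_totalDegree (MvPolynomial.mem_support_iff.mpr (Ne.symm h))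
      by_cases ha : a ∈ t.support
      · exact le_trans (Finset.single_le_sum (fun x _ => Nat.zero_le (t x)) ha)
          (le_trans h1 (hq i))
      · simp [Finsupp.notMem_support_iff.mp ha]
  have hinj : ∀ a b : B, (∀ i, MvPolynomial.map (Pi.evalRingHom R i) a =
      MvPolynomial.map (Pi.evalRingHom R i) b) → a = b := fun a b h => by
    refine MvPolynomial.ext _ _ fun t => funext fun i => ?_
    simpa [MvPolynomial.coeff_map] using congrArg (MvPolynomial.coeff t) (h i)
  let V : Fin N → B := fun j => col fun i => v i j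
  let W : Fin N → B := fun j => col fun i => w i j
  have hE : ∀ j k, E j k = V j * W k := fun j k => hinj _ _ fun i => by
    rw [map_mul, hcol _ (fun i => (hdeg i j).1), hcol _ (fun i => (hdeg i k).2), hvw]
  have hVW : ∑ k, V k * W k = 1 := hinj _ _ fun i => by
    rw [map_sum, map_one, ← hsum i]
    exact Finset.sum_congr rfl fun k _ => by
      rw [map_mul, hcol _ (fun i => (hdeg i k).1), hcol _ (fun i => (hdeg i k).2)]
  refine Module.Invertible.free_iff_linearEquiv.mpr ⟨LinearEquiv.ofLinearMap
    (∑ k, W k • (LinearMap.proj k).comp s) (LinearMap.toSpanSingleton B M (p V))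
    (LinearMap.ext_ring ?_) (LinearMap.ext fun x => ?_)⟩
  · have hpV : p V = ∑ k, V k • p (Pi.single k 1) := by
      conv_lhs => rw [← (Pi.basisFun B (Fin N)).sum_repr V]
      simp [Pi.basisFun_apply]
    have hsV : ∀ j, s (p V) j = V j := fun j => by
      calc s (p V) j = ∑ k, V k * E j k := by simp [hpV, E, Finset.sum_apply]
        _ = V j * ∑ k, V k * W k := by
          rw [Finset.mul_sum]; exact Finset.sum_congr rfl fun k _ => by rw [hE]; ring
        _ = V j := by rw [hVW, mul_one]
    rw [LinearMap.comp_apply, LinearMap.toSpanSingleton_apply, one_smul]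
    simp [LinearMap.sum_apply, hsV, mul_comm, hVW]
  · have hsx : ∀ j, s x j = V j * ∑ k, W k * s x k := fun j => by
      calc s x j = s (∑ k, s x k • p (Pi.single k 1)) j := by rw [← hexp]
        _ = ∑ k, s x k * E j k := by simp [E, Finset.sum_apply]
        _ = _ := by rw [Finset.mul_sum]; exact Finset.sum_congr rfl fun k _ => by rw [hE]; ring
    have : s x = (∑ k, W k * s x k) • V := funext fun j => by
      rw [Pi.smul_apply, smul_eq_mul, hsx j, mul_comm]
    conv_rhs => rw [LinearMap.id_apply, ← hps' x, this, map_smul]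
    simp only [LinearMap.coe_comp, Function.comp_apply, LinearMap.sum_apply, LinearMap.smul_apply,
      LinearMap.proj_apply, smul_eq_mul]
    rfl

theorem subsingleton_pic : Subsingleton (CommRing.Pic (MvPolynomial (Fin n) (∀ i, R i))) :=
  CommRing.Pic.subsingleton_iff.mpr fun M _ _ _ => free_of_invertible R n M

end GrothLib.PicVal28
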